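import Groth.Agent.Cyc90.VField.Poly
import Groth.Agent.Om3.OmegaPn
import Groth.Agent.QC70.UnitSub
import Groth.Agent.Curves2.ProjLine
import Groth.Agent.Curves2.ProjLineProper
import Mathlib.LinearAlgebra.Eigenspace.Triangularizable
import Mathlib.FieldTheory.IsAlgClosed.AlgebraicClosure

/-! Every vector field on projective space has a zero. -/

set_option autoImplicit false
set_option backward.isDefEq.respectTransparency false
set_option linter.style.haveILetI false
set_option linter.unusedSectionVars false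
universe u

open CategoryTheory CategoryTheory.Limits AlgebraicGeometry TopologicalSpace Opposite IsLocalRing

noncomputable section

namespace Groth.Agent.Cyc90.VField

open Groth.Agent QC70 Props58.LocFree Approx60.ProjCharts Om3.OmegaPn MvPolynomial

/-- A ring map from polynomials sends `G(u a)` to a dehomogenised form. -/
theorem exists_homog {k R : Type u} [CommRing k] [CommRing R] {n : ℕ} (ι : k →+* R)
    (a : Fin (n + 1) → R) (ha : a 0 = 1) (u : R) (j : Fin (n + 1)) (hu : u * a j = 1)
    (G : MvPolynomial (Fin n) k) (y : Fin n → R) (hy : ∀ i, ∃ m, y i = u * a m) :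
    ∃ (N : ℕ) (H : MvPolynomial (Fin n) k), H.totalDegree ≤ N ∧
      eval₂ ι y G = u ^ N * eval₂ ι (fun i => a i.succ) H := by
  have haug : ∀ m, eval₂ ι (fun i => a i.succ) (aug (k := k) m) = a m ∧ (aug (k := k) m : MvPolynomial (Fin n) k).totalDegree ≤ 1 := by
    intro m
    induction m using Fin.cases with
    | zero => simp [aug, ha]
    | succ i => exact ⟨by simp [aug], by
        simp only [aug, Fin.cases_succ]
        exact le_of_le_of_eq (totalDegree_monomial_le _ _) (by simp)⟩
  induction G using MvPolynomial.induction_on with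
  | C c => exact ⟨0, C c, by simp, by simp⟩
  | add p q hp hq =>
    obtain ⟨N, H, hH, eH⟩ := hp
    obtain ⟨M, L, hL, eL⟩ := hq
    refine ⟨N + M, H * aug j ^ M + L * aug j ^ N, ?_, ?_⟩
    · refine (totalDegree_add _ _).trans (max_le ?_ ?_)
      · refine (totalDegree_mul _ _).trans ?_
        have := (totalDegree_pow (aug (k := k) j) M).trans (Nat.mul_le_mul le_rfl (haug j).2)
        omega
      · refine (totalDegree_mul _ _).trans ?_
        have := (totalDegree_pow (aug (k := k) j) N).trans (Nat.mul_le_mul le_rfl (haug j).2)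
        omega
    · rw [eval₂_add, eval₂_add, eval₂_mul, eval₂_mul, eval₂_pow, eval₂_pow, (haug j).1, eH, eL, pow_add]
      have h1 : ∀ s, u ^ s * a j ^ s = 1 := fun s => by rw [← mul_pow, hu, one_pow]
      linear_combination (-(u ^ N * eval₂ ι (fun i => a i.succ) H)) * h1 M +
        (-(u ^ M * eval₂ ι (fun i => a i.succ) L)) * h1 N
  | mul_X p i hp =>
    obtain ⟨N, H, hH, eH⟩ := hp
    obtain ⟨m, hm⟩ := hy i
    refine ⟨N + 1, H * aug m, ?_, ?_⟩
    · refine (totalDegree_mul _ _).trans ?_
      have := (haug m).2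
      omega
    · rw [eval₂_mul, eval₂_X, eval₂_mul, (haug m).1, eH, hm, pow_succ]
      ring

/-- Evaluation of the quadratic vector field of a matrix. -/
theorem eval₂_form {k R : Type u} [CommRing k] [CommRing R] {n : ℕ} (ι : k →+* R) (a : Fin (n + 1) → R)
    (ha : a 0 = 1) (A : Fin (n + 1) → Fin (n + 1) → k) (i : Fin n) :
    eval₂ ι (fun i => a i.succ) (∑ m, C (A i.succ m) * aug m - X i * ∑ m, C (A 0 m) * aug m) =
      ∑ m, ι (A i.succ m) * a m - a i.succ * ∑ m, ι (A 0 m) * a m := by
  have haug : ∀ m, eval₂ ι (fun i => a i.succ) (aug (k := k) m) = a m := fun m => by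
    induction m using Fin.cases with
    | zero => simp [aug, ha]
    | succ i => simp [aug]
  simp only [eval₂_sub, eval₂_mul, eval₂_X, eval₂_sum, eval₂_C, haug]

/-- The degree bound from a change of chart. -/
theorem totalDegree_le_two_of_eval₂ {k R : Type u} [Field k] [CommRing R] {n : ℕ} (ι : k →+* R)
    (g : Fin n → R) (hinj : ∀ G G', eval₂ ι g G = eval₂ ι g G' → G = G') (j : Fin n) (u : R)
    (hu : u * g j = 1) (Q H : MvPolynomial (Fin n) k) (N : ℕ) (hH : H.totalDegree ≤ N)
    (hQ : u ^ 2 * eval₂ ι g Q = u ^ N * eval₂ ι g H) : Q.totalDegree ≤ 2 := by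
  have h1 : ∀ s, u ^ s * g j ^ s = 1 := fun s => by rw [← mul_pow, hu, one_pow]
  have key : X j ^ N * Q = X j ^ 2 * H := hinj _ _ (by
    rw [eval₂_mul, eval₂_mul, eval₂_pow, eval₂_pow, eval₂_X]
    linear_combination (g j ^ N * g j ^ 2) * hQ - g j ^ N * eval₂ ι g Q * h1 2 +
      g j ^ 2 * eval₂ ι g H * h1 N)
  by_cases hQ0 : Q = 0
  · simp [hQ0]
  have hd := congrArg MvPolynomial.totalDegree key
  rw [totalDegree_mul_of_isDomain (pow_ne_zero _ (X_ne_zero j)) hQ0, totalDegree_X_pow] at hd
  have h2 := totalDegree_mul ((X j : MvPolynomial (Fin n) k) ^ 2) H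
  rw [totalDegree_X_pow] at h2
  omega

variable {k : Type u} [Field k] {n : ℕ}



/-- The derivation of functions given by a vector field. -/
def act [QuasiSeparated (CohB1.ProjSpace.toSpec n k)]
    (ξ : Omega.sheaf (CohB1.ProjSpace.toSpec n k) ⟶ Coh.structureModule (CohB1.ProjSpace n k))
    (W : (CohB1.ProjSpace n k).Opens) (a : Γ(CohB1.ProjSpace n k, W)) : Γ(CohB1.ProjSpace n k, W) :=
  OmegaSh.fnSect (CohB1.ProjSpace n k) W
    (ξ.app W ((OmegaSh.dOmega (CohB1.ProjSpace.toSpec n k)).app W a))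

variable [QuasiSeparated (CohB1.ProjSpace.toSpec n k)]
  (ξ : Omega.sheaf (CohB1.ProjSpace.toSpec n k) ⟶ Coh.structureModule (CohB1.ProjSpace n k))

lemma act_mul (W : (CohB1.ProjSpace n k).Opens) (a b : Γ(CohB1.ProjSpace n k, W)) :
    act ξ W (a * b) = a * act ξ W b + b * act ξ W a := by
  unfold act
  rw [Var76.OmegaUniv.Der.map_mul, map_add, map_add, Scheme.Modules.Hom.app_smul,
    Scheme.Modules.Hom.app_smul]
  rfl

lemma act_one (W : (CohB1.ProjSpace n k).Opens) : act ξ W 1 = 0 := by
  have h := act_mul ξ W 1 1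
  simp only [one_mul] at h
  exact left_eq_add.1 h

lemma act_res {W W' : (CohB1.ProjSpace n k).Opens} (h : W' ≤ W) (a : Γ(CohB1.ProjSpace n k, W)) :
    act ξ W' (resO _ h a) = resO _ h (act ξ W a) := by
  unfold act
  rw [Var76.OmegaUniv.Der.res, QC70.app_res]
  rfl

lemma const_res {W W' : (CohB1.ProjSpace n k).Opens} (h : W' ≤ W) (c : k) :
    resO _ h (const (k := k) (CohB1.ProjSpace n k) W c) = const (k := k) (CohB1.ProjSpace n k) W' c := by
  have h2 := Scheme.Hom.appLE_map ((CohB1.ProjSpace n k) ↘ Spec (CommRingCat.of k))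
    (U := ⊤) (V := W) le_top (homOfLE h).op
  exact congrArg (fun φ => φ ((Scheme.ΓSpecIso (CommRingCat.of k)).inv c)) h2

lemma nonempty_U (j : Fin (n + 1)) : Nonempty (U k n j) := by
  haveI : Nontrivial Γ(CohB1.ProjSpace n k, U k n j) :=
    (bijective_eval₂ k n j).1.nontrivial
  haveI := isAffineOpen_U k n j
  obtain ⟨m, hm⟩ := Ideal.exists_maximal Γ(CohB1.ProjSpace n k, U k n j)
  refine ⟨⟨(isAffineOpen_U k n j).fromSpec (⟨m, hm.isPrime⟩ : PrimeSpectrum _), ?_⟩⟩
  exact (isAffineOpen_U k n j).range_fromSpec.le ⟨_, rfl⟩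

lemma res_injective {W W' : (CohB1.ProjSpace n k).Opens} (h : W' ≤ W) [Nonempty W'] :
    Function.Injective (resO _ h : Γ(CohB1.ProjSpace n k, W) → Γ(CohB1.ProjSpace n k, W')) := by
  haveI := Curves2.ProjLine.isIntegral k n
  exact map_injective_of_isIntegral (CohB1.ProjSpace n k) (homOfLE h)

lemma nonempty_inf (i j : Fin (n + 1)) : Nonempty (U k n i ⊓ U k n j : (CohB1.ProjSpace n k).Opens) := by
  haveI := Curves2.ProjLine.isIntegral k n
  obtain ⟨⟨x, hx⟩⟩ := nonempty_U (k := k) i
  obtain ⟨⟨y, hy⟩⟩ := nonempty_U (k := k) j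
  exact ⟨⟨genericPoint _, ((genericPoint_spec _).specializes trivial).mem_open (U k n i).2 hx,
    ((genericPoint_spec _).specializes trivial).mem_open (U k n j).2 hy⟩⟩

set_option maxHeartbeats 3000000 in
/-- A vector field on projective space is given by a matrix. -/
theorem exists_matrix_act :
    ∃ A : Fin (n + 1) → Fin (n + 1) → k, ∀ j l,
      act ξ (U k n j) (coord k n j l) =
        ∑ m, const (k := k) (CohB1.ProjSpace n k) (U k n j) (A l m) * coord k n j m -
          coord k n j l * ∑ m, const (k := k) (CohB1.ProjSpace n k) (U k n j) (A j m) * coord k n j m := by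
  classical
  choose P hP using fun i : Fin n => (bijective_eval₂ k n 0).2 (act ξ (U k n 0) (coord k n 0 i.succ))
  have hx : ∀ (j : Fin (n + 1)) (l : Fin (n + 1)),
      resO (CohB1.ProjSpace n k) (inf_le_right : U k n 0 ⊓ U k n j ≤ U k n j) (coord k n j l) =
        resO (CohB1.ProjSpace n k) (inf_le_right : U k n 0 ⊓ U k n j ≤ U k n j) (coord k n j 0) *
          resO (CohB1.ProjSpace n k) (inf_le_left : U k n 0 ⊓ U k n j ≤ U k n 0) (coord k n 0 l) :=
    fun j l => coord_transition k n 0 j l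
  -- evaluation on an overlap
  have hev : ∀ (j : Fin (n + 1)) (G : MvPolynomial (Fin n) k),
      eval₂ (const (k := k) (CohB1.ProjSpace n k) (U k n 0 ⊓ U k n j))
        (fun i => resO (CohB1.ProjSpace n k) (inf_le_left : U k n 0 ⊓ U k n j ≤ U k n 0) (coord k n 0 i.succ)) G =
      resO (CohB1.ProjSpace n k) (inf_le_left : U k n 0 ⊓ U k n j ≤ U k n 0)
        (eval₂Hom (const (k := k) (CohB1.ProjSpace n k) (U k n 0)) (fun l => coord k n 0 ((0 : Fin (n + 1)).succAbove l)) G) := by
    intro j G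
    induction G using MvPolynomial.induction_on with
    | C c => simp only [eval₂_C, eval₂Hom_C]; exact (const_res _ c).symm
    | add p q hp hq => simp only [eval₂_add, map_add, hp, hq]
    | mul_X p i hp =>
      simp only [eval₂_mul, eval₂_X, map_mul, eval₂Hom_X', Fin.zero_succAbove, hp]
  have heP : ∀ (j : Fin (n + 1)) (i : Fin n),
      act ξ (U k n 0 ⊓ U k n j) (resO (CohB1.ProjSpace n k) inf_le_left (coord k n 0 i.succ)) =
        eval₂ (const (k := k) (CohB1.ProjSpace n k) (U k n 0 ⊓ U k n j))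
          (fun i => resO (CohB1.ProjSpace n k) (inf_le_left : U k n 0 ⊓ U k n j ≤ U k n 0) (coord k n 0 i.succ)) (P i) := fun j i => by
    rw [hev, hP, act_res]
  have hinj : ∀ (j : Fin (n + 1)) (G G' : MvPolynomial (Fin n) k),
      eval₂ (const (k := k) (CohB1.ProjSpace n k) (U k n 0 ⊓ U k n j))
        (fun i => resO (CohB1.ProjSpace n k) (inf_le_left : U k n 0 ⊓ U k n j ≤ U k n 0) (coord k n 0 i.succ)) G =
      eval₂ (const (k := k) (CohB1.ProjSpace n k) (U k n 0 ⊓ U k n j))
        (fun i => resO (CohB1.ProjSpace n k) (inf_le_left : U k n 0 ⊓ U k n j ≤ U k n 0) (coord k n 0 i.succ)) G' → G = G' := by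
    intro j G G' h
    rw [hev, hev] at h
    haveI := nonempty_inf (k := k) 0 j
    exact (bijective_eval₂ k n 0).1 (res_injective _ h)
  -- the transformation rule
  have hrule : ∀ (j : Fin (n + 1)) (l : Fin (n + 1)),
      act ξ (U k n 0 ⊓ U k n j) (resO (CohB1.ProjSpace n k) inf_le_right (coord k n j l)) =
        resO (CohB1.ProjSpace n k) inf_le_right (coord k n j 0) * act ξ _ (resO (CohB1.ProjSpace n k) inf_le_left (coord k n 0 l)) -
          resO (CohB1.ProjSpace n k) inf_le_left (coord k n 0 l) * (resO (CohB1.ProjSpace n k) inf_le_right (coord k n j 0) ^ 2 *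
            act ξ _ (resO (CohB1.ProjSpace n k) inf_le_left (coord k n 0 j))) := by
    intro j l
    have hu := hx j j
    rw [coord_self] at hu
    have hu1 : resO (CohB1.ProjSpace n k) (inf_le_right : U k n 0 ⊓ U k n j ≤ U k n j) (1 : Γ((CohB1.ProjSpace n k), U k n j)) = 1 :=
      map_one ((CohB1.ProjSpace n k).presheaf.map _).hom
    rw [hu1] at hu
    have hd := act_mul ξ _ (resO (CohB1.ProjSpace n k) (inf_le_right : U k n 0 ⊓ U k n j ≤ U k n j) (coord k n j 0))
      (resO (CohB1.ProjSpace n k) (inf_le_left : U k n 0 ⊓ U k n j ≤ U k n 0) (coord k n 0 j))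
    rw [← hu, act_one] at hd
    rw [hx j l, act_mul]
    linear_combination (resO (CohB1.ProjSpace n k) inf_le_left (coord k n 0 l)) * (resO (CohB1.ProjSpace n k) inf_le_right (coord k n j 0)) * (-hd) +
      (resO (CohB1.ProjSpace n k) inf_le_left (coord k n 0 l)) * act ξ _ (resO (CohB1.ProjSpace n k) inf_le_right (coord k n j 0)) * hu
  -- the degree bound
  have hdeg : ∀ (j : Fin n) (l : Fin (n + 1)) (Q : MvPolynomial (Fin n) k),
      resO (CohB1.ProjSpace n k) (inf_le_right : U k n 0 ⊓ U k n j.succ ≤ U k n j.succ) (coord k n j.succ 0) ^ 2 *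
        eval₂ (const (k := k) (CohB1.ProjSpace n k) (U k n 0 ⊓ U k n j.succ))
          (fun i => resO (CohB1.ProjSpace n k) (inf_le_left : U k n 0 ⊓ U k n j.succ ≤ U k n 0) (coord k n 0 i.succ)) Q =
      act ξ _ (resO (CohB1.ProjSpace n k) inf_le_right (coord k n j.succ l)) → Q.totalDegree ≤ 2 := by
    intro j l Q hQ
    obtain ⟨G, hG⟩ := (bijective_eval₂ k n j.succ).2 (act ξ (U k n j.succ) (coord k n j.succ l))
    let u := resO (CohB1.ProjSpace n k) (inf_le_right : U k n 0 ⊓ U k n j.succ ≤ U k n j.succ) (coord k n j.succ 0)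
    let a : Fin (n + 1) → Γ((CohB1.ProjSpace n k), U k n 0 ⊓ U k n j.succ) := fun m => resO (CohB1.ProjSpace n k) inf_le_left (coord k n 0 m)
    have hua : u * a j.succ = 1 := by
      rw [← hx, coord_self]; exact map_one ((CohB1.ProjSpace n k).presheaf.map _).hom
    have ha0 : a 0 = 1 := by
      show resO (CohB1.ProjSpace n k) _ (coord k n 0 0) = 1
      rw [coord_self]; exact map_one ((CohB1.ProjSpace n k).presheaf.map _).hom
    obtain ⟨N, H, hH, eH⟩ := exists_homog (const (k := k) (CohB1.ProjSpace n k) (U k n 0 ⊓ U k n j.succ)) a ha0 u j.succ hua G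
      (fun i => resO (CohB1.ProjSpace n k) inf_le_right (coord k n j.succ (j.succ.succAbove i))) (fun i => ⟨_, hx _ _⟩)
    have hres : act ξ _ (resO (CohB1.ProjSpace n k) inf_le_right (coord k n j.succ l)) =
        eval₂ (const (k := k) (CohB1.ProjSpace n k) (U k n 0 ⊓ U k n j.succ))
          (fun i => resO (CohB1.ProjSpace n k) inf_le_right (coord k n j.succ (j.succ.succAbove i))) G := by
      rw [act_res, ← hG]
      clear hG eH hH hQ
      induction G using MvPolynomial.induction_on with
      | C c => simp only [eval₂_C, eval₂Hom_C]; exact const_res _ c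
      | add p q hp hq => simp only [eval₂_add, map_add, ← hp, ← hq]
      | mul_X p i hp =>
        simp only [eval₂_mul, eval₂_X, map_mul, eval₂Hom_X', ← hp]
    exact totalDegree_le_two_of_eval₂ (const (k := k) (CohB1.ProjSpace n k) (U k n 0 ⊓ U k n j.succ))
      (fun i => a i.succ) (hinj j.succ) j u hua Q H N hH (hQ.trans (hres.trans eH))
  have hP2 : ∀ j, (P j).totalDegree ≤ 2 := fun j => by
    have h := hrule j.succ 0
    have h00 : resO (CohB1.ProjSpace n k) (inf_le_left : U k n 0 ⊓ U k n j.succ ≤ U k n 0) (coord k n 0 0) = 1 := by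
      rw [coord_self]; exact map_one ((CohB1.ProjSpace n k).presheaf.map _).hom
    rw [h00, act_one, mul_zero, zero_sub, one_mul, heP] at h
    have := hdeg j 0 (-P j) (by rw [eval₂_neg, mul_neg]; exact h.symm)
    rwa [totalDegree_neg] at this
  have hcr : ∀ j l, (X j * P l - X l * P j).totalDegree ≤ 2 := fun j l => by
    refine hdeg j l.succ _ ?_
    have hua := hx j.succ j.succ
    rw [coord_self, show resO (CohB1.ProjSpace n k) (inf_le_right : U k n 0 ⊓ U k n j.succ ≤ U k n j.succ)
      (1 : Γ((CohB1.ProjSpace n k), U k n j.succ)) = 1 from map_one ((CohB1.ProjSpace n k).presheaf.map _).hom] at hua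
    rw [eval₂_sub, eval₂_mul, eval₂_mul, eval₂_X, eval₂_X, hrule, heP, heP]
    linear_combination (-(resO (CohB1.ProjSpace n k) inf_le_right (coord k n j.succ 0) *
      eval₂ (const (k := k) (CohB1.ProjSpace n k) (U k n 0 ⊓ U k n j.succ))
        (fun i => resO (CohB1.ProjSpace n k) (inf_le_left : U k n 0 ⊓ U k n j.succ ≤ U k n 0) (coord k n 0 i.succ)) (P l))) * hua
  obtain ⟨A, hA⟩ := exists_matrix P hP2 hcr
  refine ⟨A, fun j l => ?_⟩
  haveI := nonempty_inf (k := k) 0 j
  refine res_injective (inf_le_right : U k n 0 ⊓ U k n j ≤ U k n j) ?_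
  let u := resO (CohB1.ProjSpace n k) (inf_le_right : U k n 0 ⊓ U k n j ≤ U k n j) (coord k n j 0)
  let a : Fin (n + 1) → Γ((CohB1.ProjSpace n k), U k n 0 ⊓ U k n j) := fun m => resO (CohB1.ProjSpace n k) inf_le_left (coord k n 0 m)
  let S : Fin (n + 1) → Γ((CohB1.ProjSpace n k), U k n 0 ⊓ U k n j) := fun l =>
    ∑ m, const (k := k) (CohB1.ProjSpace n k) (U k n 0 ⊓ U k n j) (A l m) * a m
  have ha0 : a 0 = 1 := by
    show resO (CohB1.ProjSpace n k) _ (coord k n 0 0) = 1
    rw [coord_self]; exact map_one ((CohB1.ProjSpace n k).presheaf.map _).hom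
  have hact : ∀ l, act ξ _ (a l) = S l - a l * S 0 := fun l => by
    induction l using Fin.cases with
    | zero => rw [ha0, act_one, one_mul, sub_self]
    | succ i =>
      have e1 := heP j i
      rw [hA i] at e1
      refine e1.trans ?_
      exact eval₂_form (const (k := k) (CohB1.ProjSpace n k) (U k n 0 ⊓ U k n j)) a ha0 A i
  have hS : ∀ l, resO (CohB1.ProjSpace n k) (inf_le_right : U k n 0 ⊓ U k n j ≤ U k n j)
      (∑ m, const (k := k) (CohB1.ProjSpace n k) (U k n j) (A l m) * coord k n j m) = u * S l := fun l => by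
    refine (map_sum ((CohB1.ProjSpace n k).presheaf.map _).hom _ _).trans ?_
    rw [Finset.mul_sum]
    refine Finset.sum_congr rfl fun m _ => ((map_mul ((CohB1.ProjSpace n k).presheaf.map _).hom _ _).trans ?_)
    show resO (CohB1.ProjSpace n k) _ _ * resO (CohB1.ProjSpace n k) _ _ = _
    rw [const_res, hx j m]
    ring
  have hsub : ∀ x y z : Γ((CohB1.ProjSpace n k), U k n j), resO (CohB1.ProjSpace n k) (inf_le_right : U k n 0 ⊓ U k n j ≤ U k n j) (x - y * z) =
      resO (CohB1.ProjSpace n k) inf_le_right x - resO (CohB1.ProjSpace n k) inf_le_right y * resO (CohB1.ProjSpace n k) inf_le_right z := fun x y z =>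
    (map_sub ((CohB1.ProjSpace n k).presheaf.map _).hom _ _).trans (congrArg (_ - ·) (map_mul ((CohB1.ProjSpace n k).presheaf.map _).hom _ _))
  rw [← act_res, hrule, hsub, hS, hS, hx j l]
  show u * act ξ _ (a l) - a l * (u ^ 2 * act ξ _ (a j)) = u * S l - u * a l * (u * S j)
  have hua := hx j j
  rw [coord_self, show resO (CohB1.ProjSpace n k) (inf_le_right : U k n 0 ⊓ U k n j ≤ U k n j)
    (1 : Γ((CohB1.ProjSpace n k), U k n j)) = 1 from map_one ((CohB1.ProjSpace n k).presheaf.map _).hom] at hua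
  change 1 = u * a j at hua
  rw [hact, hact]
  linear_combination (-(u * a l * S 0)) * hua

/-- Every vector field has a zero. -/
theorem exists_zero :
    ∃ x : ↥(CohB1.ProjSpace n k), ∀ (W : (CohB1.ProjSpace n k).Opens) (hx : x ∈ W)
      (s : Γ(Omega.sheaf (CohB1.ProjSpace.toSpec n k), W)),
      (CohB1.ProjSpace n k).presheaf.germ W x hx (OmegaSh.fnSect (CohB1.ProjSpace n k) W (ξ.app W s)) ∈
        maximalIdeal ((CohB1.ProjSpace n k).presheaf.stalk x) := by
  classical
  obtain ⟨A, hA⟩ := exists_matrix_act ξ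
  let K := AlgebraicClosure k
  let T : Module.End K (Fin (n + 1) → K) := Matrix.toLin' (Matrix.of fun l m => algebraMap k K (A l m))
  obtain ⟨μ, hμ⟩ := Module.End.exists_eigenvalue T
  obtain ⟨w, hw⟩ := hμ.exists_hasEigenvector
  obtain ⟨j, hj⟩ : ∃ j, w j ≠ 0 := by
    by_contra h; push Not at h; exact hw.2 (funext h)
  let v : Fin (n + 1) → K := fun m => w m / w j
  have hvj : v j = 1 := div_self hj
  have hv : ∀ l, ∑ m, algebraMap k K (A l m) * v m = μ * v l := fun l => by
    have h1 : T w l = μ * w l := by rw [hw.apply_eq_smul]; rfl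
    rw [Matrix.toLin'_apply, Matrix.mulVec] at h1
    simp only [dotProduct, Matrix.of_apply] at h1
    simp only [v, ← mul_div_assoc, ← Finset.sum_div, h1]
  have hU := isAffineOpen_U k n j
  let e := RingEquiv.ofBijective _ (bijective_eval₂ k n j)
  let χ : Γ((CohB1.ProjSpace n k), U k n j) →+* K :=
    (MvPolynomial.eval₂Hom (algebraMap k K) fun l => v (j.succAbove l)).comp e.symm.toRingHom
  have hχc : ∀ c, χ (const (k := k) (CohB1.ProjSpace n k) (U k n j) c) = algebraMap k K c := fun c => by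
    show eval₂Hom _ _ (e.symm _) = _
    rw [show e.symm (const (k := k) (CohB1.ProjSpace n k) (U k n j) c) = C c from
      e.symm_apply_eq.2 (eval₂Hom_C _ _ c).symm, eval₂Hom_C]
  have hχv : ∀ l, χ (coord k n j l) = v l := fun l => by
    rcases Fin.eq_self_or_eq_succAbove j l with rfl | ⟨l, rfl⟩
    · rw [coord_self, map_one, hvj]
    · show eval₂Hom _ _ (e.symm _) = _
      rw [show e.symm (coord k n j (j.succAbove l)) = X l from
        e.symm_apply_eq.2 (eval₂Hom_X' (const (k := k) (CohB1.ProjSpace n k) (U k n j))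
          (fun l => coord k n j (j.succAbove l)) l).symm, eval₂Hom_X']
  let q : PrimeSpectrum Γ((CohB1.ProjSpace n k), U k n j) := ⟨RingHom.ker χ, RingHom.ker_isPrime χ⟩
  let x : (CohB1.ProjSpace n k) := hU.fromSpec q
  have hxU : x ∈ U k n j := hU.range_fromSpec.le ⟨q, rfl⟩
  have hq : hU.primeIdealOf ⟨x, hxU⟩ = q :=
    hU.fromSpec.isOpenEmbedding.injective (hU.fromSpec_primeIdealOf ⟨x, hxU⟩)
  have hzero : ∀ l, (CohB1.ProjSpace n k).presheaf.germ (U k n j) x hxU (act ξ (U k n j) (coord k n j l)) ∈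
      maximalIdeal ((CohB1.ProjSpace n k).presheaf.stalk x) := fun l => by
    letI := TopCat.Presheaf.algebra_section_stalk (CohB1.ProjSpace n k).presheaf ⟨x, hxU⟩
    haveI := hU.isLocalization_stalk ⟨x, hxU⟩
    refine (IsLocalization.AtPrime.to_map_mem_maximal_iff ((CohB1.ProjSpace n k).presheaf.stalk x)
      (hU.primeIdealOf ⟨x, hxU⟩).asIdeal (act ξ (U k n j) (coord k n j l))).2 ?_
    rw [hq]
    show χ _ = 0
    rw [hA, map_sub, map_mul, map_sum, map_sum]
    simp only [map_mul, hχc, hχv, hv, hvj]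
    ring
  refine ⟨x, fun W hxW s => ?_⟩
  let D := OmegaSh.dOmega (CohB1.ProjSpace.toSpec n k)
  let b := fun l : Fin n => D.app (U k n j) (coord k n j (j.succAbove l))
  have hb : ∀ l, (unitStalkEquiv x).symm (stalkMapM ξ x (germM _ (U k n j) x hxU (b l))) =
      (CohB1.ProjSpace n k).presheaf.germ (U k n j) x hxU (act ξ (U k n j) (coord k n j (j.succAbove l))) := fun l => by
    rw [stalkMapM_germ, LinearEquiv.symm_apply_eq, unitStalkEquiv_germ]
    rfl
  obtain ⟨c, hc⟩ := ((stalkBasis_dCoord k n j) x hxU).2 (germM _ W x hxW s)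
  have h1 : (unitStalkEquiv x).symm (stalkMapM ξ x (germM _ W x hxW s)) =
      (CohB1.ProjSpace n k).presheaf.germ W x hxW (OmegaSh.fnSect (CohB1.ProjSpace n k) W (ξ.app W s)) := by
    rw [stalkMapM_germ, LinearEquiv.symm_apply_eq, unitStalkEquiv_germ]
    rfl
  rw [← h1, ← hc]
  show (unitStalkEquiv x).symm.toLinearMap.comp (stalkLinear ξ x) (germComb b x hxU c) ∈ _
  rw [germComb, map_sum]
  refine sum_mem fun l _ => ?_
  rw [map_smul, smul_eq_mul]
  refine Ideal.mul_mem_left _ _ ?_
  exact (hb l).symm ▸ hzero (j.succAbove l)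

end Groth.Agent.Cyc90.VField
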