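import Mathlib.RingTheory.MvPolynomial.Homogeneous
import Mathlib.Algebra.MvPolynomial.Division

/-! Quadratic vector fields on affine space extending to projective space. -/

set_option autoImplicit false
universe u

noncomputable section

namespace Groth.Agent.Cyc90.VField

open MvPolynomial

/-- The coordinates preceded by `1`. -/
def aug {k : Type u} [CommRing k] {n : ℕ} : Fin (n + 1) → MvPolynomial (Fin n) k := Fin.cases 1 X

variable {k : Type u} [Field k] {n : ℕ}

lemma eq_affine {p : MvPolynomial (Fin n) k} (h : p.totalDegree ≤ 1) :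
    ∃ c : Fin (n + 1) → k, p = ∑ m, C (c m) * aug m := by
  classical
  refine ⟨Fin.cases (coeff 0 p) fun i => coeff (Finsupp.single i 1) p, ?_⟩
  rw [Fin.sum_univ_succ]
  simp only [aug, Fin.cases_zero, Fin.cases_succ, mul_one]
  ext e
  rw [coeff_add, coeff_sum, coeff_C]
  simp only [coeff_C_mul, coeff_X]
  by_cases he : e = 0
  · subst he
    simp [Finsupp.single_eq_zero]
  by_cases hi : ∃ i, e = Finsupp.single i 1
  · obtain ⟨i, rfl⟩ := hi
    rw [if_neg (fun h => he h.symm), zero_add, Finset.sum_eq_single i]
    · simp
    · intro j _ hj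
      rw [if_neg (fun h => hj ((Finsupp.single_left_inj one_ne_zero).1 h)), mul_zero]
    · simp
  · rw [if_neg (fun h => he h.symm), zero_add, Finset.sum_eq_zero (fun j _ => ?_)]
    · by_contra hc
      have hd := h
      have hmem : e ∈ p.support := mem_support_iff.2 hc
      have h1 : (e.sum fun _ a => a) ≤ 1 := (le_totalDegree hmem).trans hd
      obtain ⟨i, hi'⟩ := Finsupp.support_nonempty_iff.2 he
      refine hi ⟨i, Finsupp.ext fun j => ?_⟩
      have hsum : e.sum (fun _ a => a) = ∑ l, e l := Finsupp.sum_fintype _ _ (fun _ => rfl)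
      have hpos : 1 ≤ e i := Nat.one_le_iff_ne_zero.2 (Finsupp.mem_support_iff.1 hi')
      have h2 := Finset.single_le_sum (f := fun l => e l) (fun l _ => Nat.zero_le _) (Finset.mem_univ i)
      by_cases hij : j = i
      · subst hij; simp; omega
      · have h3 : e i + e j ≤ ∑ l, e l := by
          rw [← Finset.sum_pair (f := fun l => e l) (Ne.symm hij)]
          exact Finset.sum_le_sum_of_subset (Finset.subset_univ _)
        simp [Ne.symm hij]; omega
    · rw [if_neg (fun h => hi ⟨j, h.symm⟩), mul_zero]

/-- A quadratic vector field with quadratic cross terms comes from a matrix. -/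
theorem exists_matrix (P : Fin n → MvPolynomial (Fin n) k) (h1 : ∀ l, (P l).totalDegree ≤ 2)
    (h2 : ∀ j l, (X j * P l - X l * P j).totalDegree ≤ 2) :
    ∃ A : Fin (n + 1) → Fin (n + 1) → k, ∀ l,
      P l = ∑ m, C (A l.succ m) * aug m - X l * ∑ m, C (A 0 m) * aug m := by
  classical
  let H := fun l => homogeneousComponent 2 (P l)
  have hcross : ∀ j l, X j * H l = X l * H j := by
    intro j l
    have h3 := homogeneousComponent_eq_zero 3 (X j * P l - X l * P j) (lt_of_le_of_lt (h2 j l) (by omega))
    have key : ∀ i (p : MvPolynomial (Fin n) k),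
        homogeneousComponent 3 (X i * p) = X i * homogeneousComponent 2 p := by
      intro i p
      ext e
      rw [coeff_homogeneousComponent, coeff_X_mul', coeff_X_mul', coeff_homogeneousComponent]
      by_cases hi : i ∈ e.support
      · have : (e - Finsupp.single i 1).degree + 1 = e.degree := by
          conv_rhs => rw [← tsub_add_cancel_of_le (Finsupp.single_le_iff.2
            (Nat.one_le_iff_ne_zero.2 (Finsupp.mem_support_iff.1 hi)) : Finsupp.single i 1 ≤ e)]
          rw [map_add, Finsupp.degree_single]
        rw [if_pos hi, if_pos hi]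
        exact if_congr (by omega) rfl rfl
      · rw [if_neg hi, if_neg hi, ite_self]
    rw [map_sub, key, key, sub_eq_zero] at h3
    exact h3
  have hdvd : ∀ l, ∃ g, H l = X l * g := by
    intro l
    suffices h : X l ∣ H l by
      obtain ⟨g, hg⟩ := h; exact ⟨g, hg⟩
    rw [X_dvd_iff_modMonomial_eq_zero]
    ext e
    rw [coeff_zero]
    by_cases hle : Finsupp.single l 1 ≤ e
    · exact coeff_modMonomial_of_le _ hle
    rw [coeff_modMonomial_of_not_le _ hle]
    have he : e l = 0 := by
      by_contra h
      exact hle (Finsupp.single_le_iff.2 (Nat.one_le_iff_ne_zero.2 h))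
    by_cases hdeg : e.degree = 2
    · obtain ⟨j, hj⟩ : ∃ j, e j ≠ 0 := by
        by_contra hc
        push Not at hc
        rw [show e = 0 from Finsupp.ext hc, map_zero] at hdeg
        omega
      have hjl : j ≠ l := fun h => hj (h ▸ he)
      have := congrArg (coeff (e + Finsupp.single j 1)) (hcross j l)
      rw [coeff_X_mul', coeff_X_mul', if_pos (by simp), if_neg (by simp [he, hjl]), add_tsub_cancel_right] at this
      exact this
    · simp [H, coeff_homogeneousComponent, hdeg]
  choose g hg using hdvd
  let q : MvPolynomial (Fin n) k := if h : 0 < n then homogeneousComponent 1 (g ⟨0, h⟩) else 0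
  have hHq : ∀ l, H l = X l * q ∧ q.totalDegree ≤ 1 := by
    intro l
    have hn : 0 < n := l.pos
    simp only [q, dif_pos hn]
    refine ⟨?_, ?_⟩
    · have hgl : g l = g ⟨0, hn⟩ := by
        have := hcross ⟨0, hn⟩ l
        rw [hg l, hg ⟨0, hn⟩, mul_left_comm] at this
        exact mul_left_cancel₀ (X_ne_zero _) (mul_left_cancel₀ (X_ne_zero _) this)
      have key : homogeneousComponent 2 (X l * g l) = X l * homogeneousComponent 1 (g l) := by
        ext e
        rw [coeff_homogeneousComponent, coeff_X_mul', coeff_X_mul', coeff_homogeneousComponent]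
        by_cases hi : l ∈ e.support
        · have : (e - Finsupp.single l 1).degree + 1 = e.degree := by
            conv_rhs => rw [← tsub_add_cancel_of_le (Finsupp.single_le_iff.2
              (Nat.one_le_iff_ne_zero.2 (Finsupp.mem_support_iff.1 hi)) : Finsupp.single l 1 ≤ e)]
            rw [map_add, Finsupp.degree_single]
          rw [if_pos hi, if_pos hi]
          exact if_congr (by omega) rfl rfl
        · rw [if_neg hi, if_neg hi, ite_self]
      rw [← hgl, ← key, ← hg l]
      ext e
      simp only [H, coeff_homogeneousComponent]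
      split_ifs <;> rfl
    · exact (homogeneousComponent_isHomogeneous 1 _).totalDegree_le
  have hlin : ∀ l, (P l - X l * q).totalDegree ≤ 1 := by
    intro l
    refine Finset.sup_le ?_
    intro e he
    by_contra hc
    push Not at hc
    have hd : e.degree = e.sum fun _ a => a := rfl
    have hcoef : coeff e (P l - X l * q) = 0 := by
      rw [coeff_sub, ← (hHq l).1]
      simp only [H, coeff_homogeneousComponent]
      split_ifs with h
      · rw [sub_self]
      · rw [sub_zero]
        by_contra hne
        have h3 : (e.sum fun _ a => a) ≤ (P l).totalDegree := le_totalDegree (mem_support_iff.2 hne)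
        have := h1 l
        omega
    exact (mem_support_iff.1 he) hcoef
  choose c hc using fun l => eq_affine (hlin l)
  obtain ⟨c₀, hc₀⟩ := eq_affine (p := -q) (by
    rw [totalDegree_neg]
    rcases Nat.eq_zero_or_pos n with h | h
    · simp [q, h]
    · exact (hHq ⟨0, h⟩).2)
  refine ⟨Fin.cases c₀ c, fun l => ?_⟩
  simp only [Fin.cases_zero, Fin.cases_succ]
  rw [← hc l, ← hc₀]
  ring

end Groth.Agent.Cyc90.VField
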